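import Groth.Agent.Lib.VarDim.Alg
import Mathlib.AlgebraicGeometry.AffineSpace
import Mathlib.AlgebraicGeometry.Fiber
import Mathlib.AlgebraicGeometry.ZariskisMainTheorem
import Mathlib.AlgebraicGeometry.Morphisms.Finite
import Mathlib.RingTheory.NoetherNormalization

/-!
# Noether normalisation on a fibre of a morphism of affine schemes
-/

universe u

set_option linter.style.haveILetI false
set_option linter.unusedSectionVars false
set_option backward.isDefEq.respectTransparency.types false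

open CategoryTheory CategoryTheory.Limits AlgebraicGeometry MvPolynomial

namespace Groth.Agent.FibNoether5

theorem closure_eq_top_of_isPushout {A B C P : CommRingCat.{u}} {f : A ⟶ B} {g : A ⟶ C}
    {i : B ⟶ P} {j : C ⟶ P} (h : IsPushout f g i j) :
    Subring.closure (Set.range i.hom ∪ Set.range j.hom) = ⊤ := by
  set T := Subring.closure (Set.range i.hom ∪ Set.range j.hom) with hT
  let i' : B ⟶ CommRingCat.of T :=
    CommRingCat.ofHom (i.hom.codRestrict T fun b => Subring.subset_closure (.inl ⟨b, rfl⟩))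
  let j' : C ⟶ CommRingCat.of T :=
    CommRingCat.ofHom (j.hom.codRestrict T fun c => Subring.subset_closure (.inr ⟨c, rfl⟩))
  have w : f ≫ i' = g ≫ j' := by
    ext a
    exact congr($(h.w).hom a)
  have h1 : h.desc i' j' w ≫ CommRingCat.ofHom T.subtype = 𝟙 P := by
    apply h.hom_ext
    · rw [← Category.assoc, h.inl_desc, Category.comp_id]; rfl
    · rw [← Category.assoc, h.inr_desc, Category.comp_id]; rfl
  rw [eq_top_iff]
  intro x _
  have : ((h.desc i' j' w).hom x).1 = x := congr($(h1).hom x)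
  rw [← this]
  exact ((h.desc i' j' w).hom x).2

variable {X Y : Scheme.{u}} [IsAffine Y]

/-- The sections of affine space are generated by the base and the coordinates. -/
theorem closure_coord (n : Type u) :
    Subring.closure (Set.range (𝔸(n; Y) ↘ Y).appTop.hom ∪ Set.range (AffineSpace.coord Y)) =
      (⊤ : Subring Γ(𝔸(n; Y), ⊤)) := by
  let E := eval₂Hom ((𝔸(n; Y) ↘ Y).appTop).hom (AffineSpace.coord Y (n := n))
  rw [eq_top_iff]
  rintro x -
  have hs : Function.Surjective E := by
    haveI : IsIso (AffineSpace.isoOfIsAffine n Y).hom.appTop :=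
      inferInstanceAs (IsIso (Scheme.Γ.map (AffineSpace.isoOfIsAffine n Y).hom.op))
    have h := ConcreteCategory.bijective_of_isIso (AffineSpace.isoOfIsAffine n Y).hom.appTop
    intro z
    obtain ⟨w, hw⟩ := h.2 z
    rw [AffineSpace.isoOfIsAffine_hom_appTop] at hw
    exact ⟨_, hw⟩
  obtain ⟨P, rfl⟩ := hs x
  induction P using MvPolynomial.induction_on with
  | C r => exact Subring.subset_closure (.inl ⟨r, (eval₂Hom_C _ _ r).symm⟩)
  | add a b ha hb => rw [map_add]; exact add_mem ha hb
  | mul_X a i ha =>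
    rw [map_mul]
    exact mul_mem ha (Subring.subset_closure (.inr ⟨i, (eval₂Hom_X' _ _ i).symm⟩))

/-- Evaluation at a point. -/
noncomputable def ev (y : Y) : Γ(Y, ⊤) ⟶ Y.residueField y :=
  (Y.fromSpecResidueField y).appTop ≫ (Scheme.ΓSpecIso _).hom

theorem exists_mul_ev (y : Y) (k : Y.residueField y) :
    ∃ s r : Γ(Y, ⊤), (ev y).hom s ≠ 0 ∧ k * (ev y).hom s = (ev y).hom r := by
  have hev : ev y = Y.presheaf.germ ⊤ y trivial ≫ Y.residue y := by
    rw [ev, Scheme.fromSpecResidueField, Scheme.Hom.comp_appTop, Scheme.fromSpecStalk_appTop]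
    simp
  obtain ⟨z, rfl⟩ := Y.residue_surjective y k
  letI := TopCat.Presheaf.algebra_section_stalk Y.presheaf (⟨y, trivial⟩ : (⊤ : Y.Opens))
  haveI := (isAffineOpen_top Y).isLocalization_stalk ⟨y, trivial⟩
  obtain ⟨r, s, rfl⟩ := IsLocalization.exists_mk'_eq
    ((isAffineOpen_top Y).primeIdealOf ⟨y, trivial⟩).asIdeal.primeCompl z
  refine ⟨s, r, ?_, ?_⟩
  · rw [hev]
    exact ((IsLocalization.map_units (Y.presheaf.stalk y) s).map (Y.residue y).hom).ne_zero
  · rw [hev]
    show (Y.residue y).hom _ * (Y.residue y).hom (algebraMap Γ(Y, ⊤) (Y.presheaf.stalk y) s) =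
      (Y.residue y).hom (algebraMap Γ(Y, ⊤) (Y.presheaf.stalk y) r)
    rw [← map_mul, IsLocalization.mk'_spec]

/-- The constants in the sections of a fibre. -/
noncomputable def cst (f : X ⟶ Y) (y : Y) : Y.residueField y ⟶ Γ(f.fiber y, ⊤) :=
  (Scheme.ΓSpecIso _).inv ≫ (f.fiberToSpecResidueField y).appTop

theorem cst_ev (f : X ⟶ Y) (y : Y) :
    ev y ≫ cst f y = f.appTop ≫ (f.fiberι y).appTop := by
  rw [ev, cst, Category.assoc, Iso.hom_inv_id_assoc]
  exact (congr($(pullback.condition (f := f) (g := Y.fromSpecResidueField y)).appTop)).symm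

variable [IsAffine X]

theorem closure_fiber (f : X ⟶ Y) (y : Y) :
    Subring.closure (Set.range (f.fiberι y).appTop.hom ∪ Set.range (cst f y).hom) = ⊤ := by
  have h := isPushout_appTop_of_isPullback
    (IsPullback.of_hasPullback f (Y.fromSpecResidueField y))
  refine Eq.trans ?_ (closure_eq_top_of_isPushout h)
  congr 2
  ext z
  constructor
  · rintro ⟨k, rfl⟩; exact ⟨_, rfl⟩
  · rintro ⟨c, rfl⟩
    refine ⟨(Scheme.ΓSpecIso (Y.residueField y)).hom c, ?_⟩
    exact congr($(Iso.hom_inv_id_assoc (Scheme.ΓSpecIso (Y.residueField y))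
      (f.fiberToSpecResidueField y).appTop).hom c)

theorem exists_scale (f : X ⟶ Y) (y : Y) (z : Γ(f.fiber y, ⊤)) :
    ∃ (s : Γ(Y, ⊤)) (b : Γ(X, ⊤)), (ev y).hom s ≠ 0 ∧
      z * (cst f y).hom ((ev y).hom s) = (f.fiberι y).appTop.hom b := by
  have hz : z ∈ Subring.closure (Set.range (f.fiberι y).appTop.hom ∪ Set.range (cst f y).hom) := by
    rw [closure_fiber]; trivial
  have hc : ∀ r, (cst f y).hom ((ev y).hom r) = (f.fiberι y).appTop.hom (f.appTop.hom r) :=
    fun r => congr($(cst_ev f y).hom r)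
  induction hz using Subring.closure_induction with
  | mem w hw =>
    rcases hw with ⟨b, rfl⟩ | ⟨k, rfl⟩
    · exact ⟨1, b, by simp, by simp⟩
    · obtain ⟨s, r, hs, hr⟩ := exists_mul_ev y k
      exact ⟨s, f.appTop.hom r, hs, by rw [← map_mul, hr, hc]⟩
  | zero => exact ⟨1, 0, by simp, by simp⟩
  | one => exact ⟨1, 1, by simp, by simp⟩
  | add a b _ _ ha hb =>
    obtain ⟨s, x, hs, hx⟩ := ha
    obtain ⟨t, w, ht, hw⟩ := hb
    refine ⟨s * t, x * f.appTop.hom t + w * f.appTop.hom s, by simp [hs, ht], ?_⟩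
    simp only [map_mul, map_add, ← hx, ← hw, ← hc]; ring
  | neg a _ ha =>
    obtain ⟨s, x, hs, hx⟩ := ha
    exact ⟨s, -x, hs, by simp [← hx]⟩
  | mul a b _ _ ha hb =>
    obtain ⟨s, x, hs, hx⟩ := ha
    obtain ⟨t, w, ht, hw⟩ := hb
    refine ⟨s * t, x * w, by simp [hs, ht], ?_⟩
    simp only [map_mul, ← hx, ← hw]; ring

theorem ringKrullDim_fiber (f : X ⟶ Y) (y : Y) :
    ringKrullDim Γ(f.fiber y, ⊤) = topologicalKrullDim ↥(f.fiber y) := by
  haveI : IsAffine (f.fiber y) :=
    IsAffine.of_isPullback (IsPullback.of_hasPullback f (Y.fromSpecResidueField y))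
  rw [← PrimeSpectrum.topologicalKrullDim_eq_ringKrullDim]
  exact ((f.fiber y).isoSpec.hom.homeomorph.isHomeomorph.topologicalKrullDim_eq).symm

/-- Noether normalisation by global sections. -/
theorem exists_normalization (f : X ⟶ Y) [LocallyOfFiniteType f] (y : Y) (e : ℕ)
    (he : topologicalKrullDim ↥(f.fiber y) = e) :
    ∃ b : Fin e → Γ(X, ⊤),
      (eval₂Hom (cst f y).hom fun i => (f.fiberι y).appTop.hom (b i)).Finite := by
  haveI : IsAffine (f.fiber y) :=
    IsAffine.of_isPullback (IsPullback.of_hasPullback f (Y.fromSpecResidueField y))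
  letI := (cst f y).hom.toAlgebra
  haveI : Algebra.FiniteType (Y.residueField y) Γ(f.fiber y, ⊤) := by
    have h : (f.fiberToSpecResidueField y).appTop.hom.FiniteType :=
      HasRingHomProperty.appTop @LocallyOfFiniteType _
        (inferInstanceAs (LocallyOfFiniteType (pullback.snd f (Y.fromSpecResidueField y))))
    rw [← RingHom.finiteType_algebraMap]
    exact h.comp (RingHom.FiniteType.of_surjective _
      (ConcreteCategory.bijective_of_isIso (Scheme.ΓSpecIso (Y.residueField y)).inv).2)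
  haveI : Nontrivial Γ(f.fiber y, ⊤) := by
    by_contra h
    rw [not_nontrivial_iff_subsingleton] at h
    have h1 := ringKrullDim_fiber f y
    rw [ringKrullDim_eq_bot_of_subsingleton, he] at h1
    exact WithBot.bot_ne_coe h1
  obtain ⟨n, t, htinj, htfin⟩ := exists_finite_inj_algHom_of_fg (Y.residueField y) Γ(f.fiber y, ⊤)
  have hn : n = e := by
    have h1 : ringKrullDim Γ(f.fiber y, ⊤) = (n : WithBot ℕ∞) := by
      letI := t.toRingHom.toAlgebra
      haveI : Module.Finite (MvPolynomial (Fin n) (Y.residueField y)) Γ(f.fiber y, ⊤) := htfin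
      rw [VarDim.ringKrullDim_eq_of_isIntegral (R := MvPolynomial (Fin n) (Y.residueField y)) htinj,
        VarDim.ringKrullDim_mvPolynomial]
    rw [ringKrullDim_fiber, he] at h1
    exact_mod_cast h1.symm
  subst hn
  choose s b hs hb using fun i => exists_scale f y (t (MvPolynomial.X i))
  refine ⟨b, ?_⟩
  let c : Fin n → Y.residueField y := fun i => (ev y).hom (s i)
  let σ : MvPolynomial (Fin n) (Y.residueField y) →ₐ[Y.residueField y]
      MvPolynomial (Fin n) (Y.residueField y) := aeval fun i => C (c i) * MvPolynomial.X i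
  let τ : MvPolynomial (Fin n) (Y.residueField y) →ₐ[Y.residueField y]
      MvPolynomial (Fin n) (Y.residueField y) := aeval fun i => C (c i)⁻¹ * MvPolynomial.X i
  have hστ : σ.comp τ = AlgHom.id _ _ := by
    apply MvPolynomial.algHom_ext
    intro i
    simp only [σ, τ, AlgHom.comp_apply, AlgHom.id_apply, aeval_X, map_mul, AlgHom.commutes,
      ← MvPolynomial.algebraMap_eq, ← mul_assoc]
    rw [← map_mul, inv_mul_cancel₀ (hs i : c i ≠ 0), map_one, one_mul]
  have hfin : (t.comp σ).Finite := AlgHom.Finite.comp htfin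
    (AlgHom.Finite.of_surjective σ fun z => ⟨τ z, AlgHom.congr_fun hστ z⟩)
  have heq : (t.comp σ).toRingHom =
      eval₂Hom (cst f y).hom fun i => (f.fiberι y).appTop.hom (b i) := by
    apply MvPolynomial.ringHom_ext
    · intro r
      rw [eval₂Hom_C]
      exact (t.comp σ).commutes r
    · intro i
      rw [eval₂Hom_X', ← hb]
      show t (σ (MvPolynomial.X i)) = _
      rw [show σ (MvPolynomial.X i) = C (c i) * MvPolynomial.X i from aeval_X _ i, map_mul, ← MvPolynomial.algebraMap_eq,
        AlgHom.commutes, mul_comm]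
      rfl
  rw [← heq]
  exact hfin

variable {e : ℕ} (g : X ⟶ 𝔸(ULift.{u} (Fin e); Y)) (y : Y)

/-- The map induced by `g` on the fibres over `y`. -/
noncomputable abbrev hmap : pullback g ((𝔸(ULift.{u} (Fin e); Y) ↘ Y).fiberι y) ⟶
    (𝔸(ULift.{u} (Fin e); Y) ↘ Y).fiber y :=
  pullback.snd g ((𝔸(ULift.{u} (Fin e); Y) ↘ Y).fiberι y)

/-- The coordinate map of the fibre of affine space. -/
noncomputable def theta : MvPolynomial (Fin e) (Y.residueField y) →+*
    Γ((𝔸(ULift.{u} (Fin e); Y) ↘ Y).fiber y, ⊤) :=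
  eval₂Hom (cst _ y).hom fun i =>
    ((𝔸(ULift.{u} (Fin e); Y) ↘ Y).fiberι y).appTop.hom (AffineSpace.coord Y ⟨i⟩)

theorem theta_surjective : Function.Surjective (theta (Y := Y) (e := e) y) := by
  intro z
  change z ∈ (theta (Y := Y) (e := e) y).range
  have h := (closure_fiber (𝔸(ULift.{u} (Fin e); Y) ↘ Y) y).ge (Subring.mem_top z)
  refine (Subring.closure_le.mpr ?_) h
  rintro w (⟨a, rfl⟩ | ⟨k, rfl⟩)
  · have ha := (closure_coord (Y := Y) (ULift.{u} (Fin e))).ge (Subring.mem_top a)
    induction ha using Subring.closure_induction with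
    | mem v hv =>
      rcases hv with ⟨r, rfl⟩ | ⟨i, rfl⟩
      · refine ⟨C ((ev y).hom r), ?_⟩
        rw [theta, eval₂Hom_C]
        exact congr($(cst_ev (𝔸(ULift.{u} (Fin e); Y) ↘ Y) y).hom r)
      · exact ⟨MvPolynomial.X i.down, eval₂Hom_X' _ _ _⟩
    | zero => rw [map_zero]; exact zero_mem _
    | one => rw [map_one]; exact one_mem _
    | add a b _ _ ha hb => rw [map_add]; exact add_mem ha hb
    | neg a _ ha => rw [map_neg]; exact neg_mem ha
    | mul a b _ _ ha hb => rw [map_mul]; exact mul_mem ha hb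
  · exact ⟨C k, eval₂Hom_C _ _ _⟩

/-- Source of `hmap` is the fibre of `f`. -/
theorem exists_iso_fiber (f : X ⟶ Y) (hg : g ≫ (𝔸(ULift.{u} (Fin e); Y) ↘ Y) = f) :
    ∃ ε : pullback g ((𝔸(ULift.{u} (Fin e); Y) ↘ Y).fiberι y) ≅ f.fiber y,
      ε.hom ≫ f.fiberι y = pullback.fst _ _ ∧
      ε.hom ≫ f.fiberToSpecResidueField y =
        hmap g y ≫ (𝔸(ULift.{u} (Fin e); Y) ↘ Y).fiberToSpecResidueField y := by
  subst hg
  exact ⟨pullbackRightPullbackFstIso _ _ g, pullbackRightPullbackFstIso_hom_fst _ _ _,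
    pullbackRightPullbackFstIso_hom_snd _ _ _⟩

/-- The composite of the coordinate map with `hmap` computed on the fibre of `f`. -/
theorem theta_hmap (f : X ⟶ Y) (hg : g ≫ (𝔸(ULift.{u} (Fin e); Y) ↘ Y) = f)
    (ε : pullback g ((𝔸(ULift.{u} (Fin e); Y) ↘ Y).fiberι y) ≅ f.fiber y)
    (h1 : ε.hom ≫ f.fiberι y = pullback.fst _ _)
    (h2 : ε.hom ≫ f.fiberToSpecResidueField y =
        hmap g y ≫ (𝔸(ULift.{u} (Fin e); Y) ↘ Y).fiberToSpecResidueField y) :
    (hmap g y).appTop.hom.comp (theta y) = ε.hom.appTop.hom.comp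
      (eval₂Hom (cst f y).hom fun i =>
        (f.fiberι y).appTop.hom (g.appTop.hom (AffineSpace.coord Y ⟨i⟩))) := by
  apply MvPolynomial.ringHom_ext
  · intro r
    simp only [theta, RingHom.comp_apply, eval₂Hom_C]
    exact congr($(h2).appTop.hom ((Scheme.ΓSpecIso (Y.residueField y)).inv r)).symm
  · intro i
    simp only [theta, RingHom.comp_apply, eval₂Hom_X']
    have h3 := congr($(h1).appTop.hom (g.appTop.hom (AffineSpace.coord Y ⟨i⟩)))
    refine Eq.trans ?_ h3.symm
    exact congr($(pullback.condition (f := g)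
      (g := (𝔸(ULift.{u} (Fin e); Y) ↘ Y).fiberι y)).appTop.hom (AffineSpace.coord Y ⟨i⟩)).symm

end Groth.Agent.FibNoether5
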