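import Groth.Agent.Lib.FibNoether5.Basic
import Mathlib.RingTheory.KrullDimension.NonZeroDivisors

/-!
# Finite projections of fibres to affine space
-/

universe u

set_option linter.style.haveILetI false
set_option linter.unusedSectionVars false
set_option backward.isDefEq.respectTransparency.types false

open CategoryTheory CategoryTheory.Limits AlgebraicGeometry MvPolynomial

namespace Groth.Agent.FibNoether5

variable {X Y : Scheme.{u}} [IsAffine X] [IsAffine Y] (f : X ⟶ Y) [LocallyOfFiniteType f] {e : ℕ}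

theorem isAffine_fiber {Z : Scheme.{u}} [IsAffine Z] (h : Z ⟶ Y) (y : Y) : IsAffine (h.fiber y) :=
  IsAffine.of_isPullback (IsPullback.of_hasPullback h (Y.fromSpecResidueField y))

/-- Finiteness of the map on fibres in terms of sections. -/
theorem isFinite_hmap_iff (g : X ⟶ 𝔸(ULift.{u} (Fin e); Y))
    (hg : g ≫ (𝔸(ULift.{u} (Fin e); Y) ↘ Y) = f) (y : Y) :
    IsFinite (hmap g y) ↔
      (eval₂Hom (cst f y).hom fun i =>
        (f.fiberι y).appTop.hom (g.appTop.hom (AffineSpace.coord Y ⟨i⟩))).Finite := by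
  obtain ⟨ε, h1, h2⟩ := exists_iso_fiber g y f hg
  haveI := isAffine_fiber f y
  haveI := isAffine_fiber (𝔸(ULift.{u} (Fin e); Y) ↘ Y) y
  haveI : IsAffine (pullback g ((𝔸(ULift.{u} (Fin e); Y) ↘ Y).fiberι y)) := .of_isIso ε.hom
  haveI : IsIso ε.hom.appTop := inferInstanceAs (IsIso (Scheme.Γ.map ε.hom.op))
  have hb := ConcreteCategory.bijective_of_isIso ε.hom.appTop
  have key := theta_hmap g y f hg ε h1 h2
  rw [HasAffineProperty.iff_of_isAffine (P := @IsFinite)]
  constructor
  · rintro ⟨-, hfin⟩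
    have h3 : ((hmap g y).appTop.hom.comp (theta y)).Finite :=
      hfin.comp (RingHom.Finite.of_surjective _ (theta_surjective y))
    rw [key] at h3
    let ei := (RingEquiv.ofBijective ε.hom.appTop.hom hb).symm
    have h4 := (RingHom.Finite.of_surjective ei.toRingHom ei.surjective).comp h3
    refine cast (congrArg RingHom.Finite ?_) h4
    exact RingHom.ext fun z => (RingEquiv.ofBijective ε.hom.appTop.hom hb).symm_apply_apply _
  · intro hfin
    refine ⟨inferInstance, RingHom.Finite.of_comp_finite (f := theta y) ?_⟩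
    rw [key]
    exact (RingHom.Finite.of_surjective _ hb.2).comp hfin

theorem exists_finite_hmap (y : Y) (he : topologicalKrullDim ↥(f.fiber y) = e) :
    ∃ g : X ⟶ 𝔸(ULift.{u} (Fin e); Y), g ≫ (𝔸(ULift.{u} (Fin e); Y) ↘ Y) = f ∧
      IsFinite (hmap g y) := by
  obtain ⟨b, hb⟩ := exists_normalization f y e he
  have hg := AffineSpace.homOfVector_over f (fun i : ULift.{u} (Fin e) => b i.down)
  refine ⟨AffineSpace.homOfVector f (fun i => b i.down), hg, ?_⟩
  rw [isFinite_hmap_iff f _ hg]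
  simpa only [AffineSpace.homOfVector_appTop_coord] using hb

theorem surjective_hmap (g : X ⟶ 𝔸(ULift.{u} (Fin e); Y))
    (hg : g ≫ (𝔸(ULift.{u} (Fin e); Y) ↘ Y) = f) (y : Y)
    (he : topologicalKrullDim ↥(f.fiber y) = e) (hfin : IsFinite (hmap g y)) :
    Function.Surjective (hmap g y).base := by
  have hψ := (isFinite_hmap_iff f g hg y).mp hfin
  obtain ⟨ε, h1, h2⟩ := exists_iso_fiber g y f hg
  haveI := isAffine_fiber f y
  haveI := isAffine_fiber (𝔸(ULift.{u} (Fin e); Y) ↘ Y) y
  haveI : IsAffine (pullback g ((𝔸(ULift.{u} (Fin e); Y) ↘ Y).fiberι y)) := .of_isIso ε.hom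
  haveI : IsIso ε.hom.appTop := inferInstanceAs (IsIso (Scheme.Γ.map ε.hom.op))
  set ψ := eval₂Hom (cst f y).hom fun i =>
    (f.fiberι y).appTop.hom (g.appTop.hom (AffineSpace.coord Y ⟨i⟩)) with hψdef
  have hker : RingHom.ker ψ = ⊥ := by
    by_contra hne
    obtain ⟨r, hr, hr0⟩ := Submodule.exists_mem_ne_zero_of_ne_bot hne
    letI := (RingHom.kerLift ψ).toAlgebra
    haveI : Module.Finite (MvPolynomial (Fin e) (Y.residueField y) ⧸ RingHom.ker ψ) Γ(f.fiber y, ⊤) :=
      RingHom.Finite.of_comp_finite (f := Ideal.Quotient.mk (RingHom.ker ψ))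
        (g := RingHom.kerLift ψ) hψ
    have hdim := VarDim.ringKrullDim_eq_of_isIntegral
      (R := MvPolynomial (Fin e) (Y.residueField y) ⧸ RingHom.ker ψ) (S := Γ(f.fiber y, ⊤))
      (RingHom.kerLift_injective ψ)
    rw [ringKrullDim_fiber, he] at hdim
    have hsp : Ideal.span {r} ≤ RingHom.ker ψ := by
      rwa [Ideal.span_singleton_le_iff_mem]
    have hle := (add_le_add
      (ringKrullDim_le_of_surjective _ (Ideal.Quotient.factor_surjective hsp)) le_rfl).trans
      (ringKrullDim_quotient_succ_le_of_nonZeroDivisor (mem_nonZeroDivisors_of_ne_zero hr0))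
    rw [← hdim, VarDim.ringKrullDim_mvPolynomial] at hle
    norm_cast at hle
    omega
  have hinj : Function.Injective (hmap g y).appTop.hom := by
    intro a b hab
    obtain ⟨a, rfl⟩ := theta_surjective (Y := Y) (e := e) y a
    obtain ⟨b, rfl⟩ := theta_surjective (Y := Y) (e := e) y b
    congr 1
    apply (RingHom.injective_iff_ker_eq_bot ψ).mpr hker
    apply (ConcreteCategory.bijective_of_isIso ε.hom.appTop).1
    have key := theta_hmap g y f hg ε h1 h2
    exact ((RingHom.congr_fun key a).symm.trans hab).trans (RingHom.congr_fun key b)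
  have hint : (hmap g y).appTop.hom.IsIntegral :=
    RingHom.Finite.to_isIntegral ((hmap g y).finite_appTop)
  have hs : Function.Surjective (Spec.map (hmap g y).appTop).base :=
    hint.comap_surjective hinj
  intro a
  obtain ⟨p, hp⟩ := hs (((𝔸(ULift.{u} (Fin e); Y) ↘ Y).fiber y).isoSpec.hom.base a)
  refine ⟨(pullback g ((𝔸(ULift.{u} (Fin e); Y) ↘ Y).fiberι y)).isoSpec.inv.base p, ?_⟩
  rw [← Scheme.Hom.comp_apply, ← Scheme.isoSpec_inv_naturality, Scheme.Hom.comp_apply, hp,
    ← Scheme.Hom.comp_apply, Iso.hom_inv_id]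
  rfl

theorem exists_lqf_nhd (g : X ⟶ 𝔸(ULift.{u} (Fin e); Y))
    (hg : g ≫ (𝔸(ULift.{u} (Fin e); Y) ↘ Y) = f) (y : Y) (hfin : IsFinite (hmap g y)) :
    ∃ U : X.Opens, f.base ⁻¹' {y} ⊆ (U : Set X) ∧ LocallyQuasiFinite (U.ι ≫ g) := by
  haveI : LocallyOfFiniteType g := by
    haveI : LocallyOfFiniteType (g ≫ (𝔸(ULift.{u} (Fin e); Y) ↘ Y)) := hg ▸ inferInstance
    exact locallyOfFiniteType_of_comp g (𝔸(ULift.{u} (Fin e); Y) ↘ Y)
  refine ⟨g.quasiFiniteLocus, fun x hx => ?_, inferInstance⟩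
  have hy : (𝔸(ULift.{u} (Fin e); Y) ↘ Y) (g x) = y := by
    rw [← Scheme.Hom.comp_apply, hg]; exact hx
  obtain ⟨a', ha'⟩ : g x ∈ Set.range ((𝔸(ULift.{u} (Fin e); Y) ↘ Y).fiberι y) := by
    rw [Scheme.Hom.range_fiberι]; exact hy
  have hfinite : (g ⁻¹' {g x}).Finite := by
    refine ((hmap g y).finite_preimage_singleton a').image (pullback.fst g _).base |>.subset ?_
    intro z hz
    obtain ⟨p, hp1, hp2⟩ := Scheme.Pullback.exists_preimage_pullback (f := g)
      (g := (𝔸(ULift.{u} (Fin e); Y) ↘ Y).fiberι y) z a' ((Set.mem_singleton_iff.mp hz).trans ha'.symm)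
    exact ⟨p, hp2, hp1⟩
  haveI : LocallyQuasiFinite (g.fiberToSpecResidueField (g x)) := by
    haveI : LocallyOfFiniteType (g.fiberToSpecResidueField (g x)) :=
      inferInstanceAs (LocallyOfFiniteType (pullback.snd g _))
    refine .of_finite_preimage_singleton _ fun p => Set.Finite.subset ?_ (Set.subset_univ _)
    haveI : Finite ↥(g.fiber (g x)) := by
      haveI := hfinite.to_subtype
      exact Finite.of_equiv _ (g.fiberHomeo (g x)).symm.toEquiv
    exact Set.finite_univ
  haveI : IsLocallyArtinian (g.fiber (g x)) :=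
    .of_locallyQuasiFinite (g.fiberToSpecResidueField (g x))
  exact Scheme.Hom.quasiFiniteAt_iff_isOpen_singleton_asFiber.mpr (isOpen_discrete _)

end Groth.Agent.FibNoether5
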